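import Mathlib
import Groth.Prelude.Def_MultCurve
import Groth.Agent.Lib.Helper1.ThickAff6

universe u
open CategoryTheory CategoryTheory.Limits AlgebraicGeometry TopologicalSpace

namespace Groth.Agent.H8.RibbonCI

/-- ring-level core: a square-zero thickening argument. -/
theorem surj_of_pushout {R S Q Q' : Type u} [CommRing R] [CommRing S] [CommRing Q] [CommRing Q']
    (φ : R →+* S) (π : R →+* Q) (ψ : S →+* Q') (ρ : Q →+* Q')
    (hcomm : ψ.comp φ = ρ.comp π) (hπ : Function.Surjective π) (hρ : Function.Surjective ρ)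
    (hker : RingHom.ker ψ ≤ Ideal.map φ (RingHom.ker π))
    (hsq : (RingHom.ker ψ) ^ 2 = ⊥) : Function.Surjective φ := by
  have hc : ∀ r, ψ (φ r) = ρ (π r) := fun r => by
    have := congrArg (fun g : R →+* Q' => g r) hcomm
    simpa using this
  -- every element of `S` is congruent to an element of the image modulo the kernel
  have hmod : ∀ a : S, ∃ r : R, a - φ r ∈ RingHom.ker ψ := by
    intro a
    obtain ⟨y, hy⟩ := hρ (ψ a)
    obtain ⟨r, hr⟩ := hπ y
    refine ⟨r, ?_⟩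
    rw [RingHom.mem_ker, map_sub, hc, hr, hy, sub_self]
  have key : ∀ x ∈ Ideal.map φ (RingHom.ker π), x ∈ RingHom.ker ψ ∧ ∃ r, φ r = x := by
    intro x hx
    change x ∈ Ideal.span (φ '' (RingHom.ker π : Set R)) at hx
    induction hx using Submodule.span_induction with
    | mem x hx =>
      obtain ⟨k, hk, rfl⟩ := hx
      refine ⟨?_, k, rfl⟩
      rw [RingHom.mem_ker, hc, (RingHom.mem_ker).mp hk, map_zero]
    | zero => exact ⟨Ideal.zero_mem _, 0, map_zero _⟩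
    | add x y _ _ hx hy =>
      obtain ⟨hx1, r1, hr1⟩ := hx
      obtain ⟨hy1, r2, hr2⟩ := hy
      exact ⟨Ideal.add_mem _ hx1 hy1, r1 + r2, by rw [map_add, hr1, hr2]⟩
    | smul a x _ hx =>
      obtain ⟨hx1, r1, hr1⟩ := hx
      obtain ⟨r', hr'⟩ := hmod a
      refine ⟨Ideal.mul_mem_left _ _ hx1, r' * r1, ?_⟩
      have h0 : (a - φ r') * x = 0 := by
        have : (a - φ r') * x ∈ (RingHom.ker ψ) ^ 2 := by
          rw [pow_two]; exact Ideal.mul_mem_mul hr' hx1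
        rw [hsq] at this
        exact this
      rw [smul_eq_mul, map_mul, hr1]
      have : a * x = φ r' * x + (a - φ r') * x := by ring
      rw [this, h0, add_zero]
  intro s
  obtain ⟨r, hr⟩ := hmod s
  obtain ⟨-, r2, hr2⟩ := key _ (hker hr)
  refine ⟨r + r2, ?_⟩
  rw [map_add, hr2]; ring

/-- from a pushout square of rings with one leg surjective, the kernel of the opposite leg is
generated by the kernel of that leg. -/
theorem ker_le_of_isPushout {R S Q Q' : CommRingCat.{u}} (φ : R ⟶ S) (π : R ⟶ Q) (ψ : S ⟶ Q')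
    (ρ : Q ⟶ Q') (h : IsPushout φ π ψ ρ) (hπ : Function.Surjective π.hom) :
    RingHom.ker ψ.hom ≤ Ideal.map φ.hom (RingHom.ker π.hom) := by
  set I : Ideal S := Ideal.map φ.hom (RingHom.ker π.hom) with hI
  let q : S ⟶ CommRingCat.of (S ⧸ I) := CommRingCat.ofHom (Ideal.Quotient.mk I)
  let g : R →+* (S ⧸ I) := (Ideal.Quotient.mk I).comp φ.hom
  have hg : RingHom.ker π.hom ≤ RingHom.ker g := by
    intro k hk
    rw [RingHom.mem_ker]
    change Ideal.Quotient.mk I (φ.hom k) = 0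
    rw [Ideal.Quotient.eq_zero_iff_mem]
    exact Ideal.mem_map_of_mem _ hk
  let gb : Q →+* (S ⧸ I) := RingHom.liftOfSurjective π.hom hπ ⟨g, hg⟩
  have hgb : ∀ r, gb (π.hom r) = g r := fun r =>
    RingHom.liftOfRightInverse_comp_apply _ _ _ ⟨g, hg⟩ r
  let gbar : Q ⟶ CommRingCat.of (S ⧸ I) := CommRingCat.ofHom gb
  have hw : φ ≫ q = π ≫ gbar := by
    ext r
    change Ideal.Quotient.mk I (φ.hom r) = gb (π.hom r)
    rw [hgb]; rfl
  have hd : ψ ≫ h.desc q gbar hw = q := h.inl_desc q gbar hw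
  intro s hs
  have h1 : q.hom s = 0 := by
    rw [← hd]
    change (h.desc q gbar hw).hom (ψ.hom s) = 0
    rw [(RingHom.mem_ker).mp hs, map_zero]
  exact Ideal.Quotient.eq_zero_iff_mem.mp h1

variable {D C X : Scheme.{u}}

theorem surjective_of_sq_zero (i : D ⟶ C) [IsClosedImmersion i] (hsq : i.ker ^ 2 = ⊥) :
    Function.Surjective i := by
  intro x
  have h1 : (i.ker ^ 2).support = i.ker.support :=
    Scheme.IdealSheafData.support_pow i.ker 2 (by norm_num)
  have h2 : (i.ker.support : Set C) = closure (Set.range i) := Scheme.Hom.support_ker i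
  rw [i.isClosedEmbedding.isClosed_range.closure_eq] at h2
  have hx : x ∈ (i.ker.support : Set C) := by
    rw [← h1, hsq, Scheme.IdealSheafData.support_bot]
    trivial
  rw [h2] at hx
  exact hx

theorem id_appLE_surj (W : D.Opens) (e : W ≤ (𝟙 D : D ⟶ D) ⁻¹ᵁ W) :
    Function.Surjective ((𝟙 D : D ⟶ D).appLE W W e).hom := by
  have h : (𝟙 D : D ⟶ D).appLE W W e = 𝟙 _ := by
    rw [Scheme.Hom.appLE, Scheme.Hom.id_app]
    have : homOfLE e = 𝟙 W := Subsingleton.elim _ _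
    rw [this]
    change 𝟙 Γ(D, W) ≫ D.presheaf.map (𝟙 (Opposite.op W)) = 𝟙 Γ(D, W)
    rw [CategoryTheory.Functor.map_id, Category.comp_id]
  rw [h]
  exact fun y => ⟨y, rfl⟩

/-- (⇒) -/
theorem ker_comap_eq (i : D ⟶ C) (f : C ⟶ X) [IsClosedImmersion i] [IsClosedImmersion f] :
    (i ≫ f).ker.comap f = i.ker := by
  have hpb : IsPullback i (𝟙 D) f (i ≫ f) := by
    refine ⟨⟨by simp⟩, ⟨PullbackCone.IsLimit.mk _ (fun s => s.snd) ?_ ?_ ?_⟩⟩
    · intro s
      rw [← cancel_mono f, Category.assoc]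
      exact s.condition.symm
    · intro s
      simp
    · intro s m _ h2
      simpa using h2
  have e : hpb.isoPullback.hom ≫ pullback.fst f (i ≫ f) = i := hpb.isoPullback_hom_fst
  rw [← Scheme.IdealSheafData.ker_fst_of_isClosedImmersion (i ≫ f) f]
  calc (pullback.fst f (i ≫ f)).ker
      = (hpb.isoPullback.hom ≫ pullback.fst f (i ≫ f)).ker :=
        (Scheme.Hom.ker_comp_of_isIso _ _).symm
    _ = i.ker := by rw [e]

/-- (⇐) -/
theorem isClosedImmersion_of (i : D ⟶ C) [IsClosedImmersion i] (hsq : i.ker ^ 2 = ⊥)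
    (f : C ⟶ X) [IsClosedImmersion (i ≫ f)] (h2 : (i ≫ f).ker.comap f = i.ker) :
    IsClosedImmersion f := by
  have hpb : IsPullback i (𝟙 D) f (i ≫ f) :=
    isPullback_of_isClosedImmersion i (i ≫ f) (𝟙 D) f (by simp) h2
  have hsurj := surjective_of_sq_zero i hsq
  haveI haff : IsAffineHom f :=
    (Groth.Agent.H1.ThickAff.isAffineHom_iff_of_thickening i (𝟙 X) (i ≫ f) f hsurj
      (by rw [Category.comp_id])).mp inferInstance
  rw [isClosedImmersion_iff_isAffineHom]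
  refine ⟨haff, fun U hU => ?_⟩
  have hV : IsAffineOpen (f ⁻¹ᵁ U) := hU.preimage f
  have hW : IsAffineOpen ((i ≫ f) ⁻¹ᵁ U) := hU.preimage (i ≫ f)
  have hUY : (i ≫ f) ⁻¹ᵁ U = i ⁻¹ᵁ (f ⁻¹ᵁ U) ⊓ (𝟙 D) ⁻¹ᵁ ((i ≫ f) ⁻¹ᵁ U) := by
    ext x
    simp
  have hiso := isIso_pushoutSection_of_isAffineOpen hpb (US := U) (UT := (i ≫ f) ⁻¹ᵁ U)
    (UX := f ⁻¹ᵁ U) le_rfl le_rfl hUY hU hW hV
  have hpo := (isIso_pushoutSection_iff hpb le_rfl le_rfl hUY).mp hiso
  have hπ : Function.Surjective ((i ≫ f).appLE U ((i ≫ f) ⁻¹ᵁ U) le_rfl).hom := by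
    rw [← Scheme.Hom.app_eq_appLE]
    exact Scheme.Hom.app_surjective (i ≫ f) U hU
  have hker := ker_le_of_isPushout _ _ _ _ hpo hπ
  have hρ : Function.Surjective ((𝟙 D : D ⟶ D).appLE ((i ≫ f) ⁻¹ᵁ U) ((i ≫ f) ⁻¹ᵁ U)
      (by simp)).hom := id_appLE_surj _ _
  -- square zero
  have h0 : (i.ker ^ 2).ideal ⟨f ⁻¹ᵁ U, hV⟩ = ⊥ := by rw [hsq]; rfl
  rw [Scheme.IdealSheafData.ideal_pow] at h0
  change (i.ker.ideal ⟨f ⁻¹ᵁ U, hV⟩) ^ 2 = ⊥ at h0
  rw [Scheme.Hom.ker_apply, Scheme.Hom.app_eq_appLE] at h0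
  rw [Scheme.Hom.app_eq_appLE]
  refine surj_of_pushout _ _ _ _ ?_ hπ hρ hker ?_
  · have := hpo.w
    exact congrArg CommRingCat.Hom.hom this
  · exact h0

end Groth.Agent.H8.RibbonCI
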